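import Cfsg.Agent.H572.RV.Asm
import Cfsg.Agent.H572.RV.WeightB

/-!
# Frames of non-nilpotent Hall `π`-subgroups of full isometry groups, `2, p ∉ π` (helper969, S4247)

`Frame ρ f Q π H r t` : `H` a Hall `π`-subgroup of the full isometry group `K` (`H572.RV.IsoG ρ f Q`),
`T = closure (Zs ρ t H)` a normal abelian Sylow `t`-subgroup generated by small elements, `Bl ρ t H` the blocks,
`FB ρ t H` the subgroup fixing all blocks; an `r`-element of `H` moves a block.
-/

set_option autoImplicit false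

namespace Cfsg.Agent.H969.DPi

open Module Cfsg.Agent.H167.OP Cfsg.Agent.H560.HallKey Cfsg.Agent.H170.HL Cfsg.Agent.H988.CPi
  Cfsg.Agent.H553.OddHall Cfsg.Agent.H571.RV Cfsg.Agent.H572.RV

variable {F : Type*} [Field F] [Finite F] {V : Type*} [AddCommGroup V] [Module F V] [Finite V]
  [FiniteDimensional F V] {K : Type*} [Group K] [Finite K]
  {ρ : Representation F K V} {f : V →ₗ[F] V →ₗ[F] F} {Q : V → F} {H : Subgroup K}

/-- the elements of `K` fixing all blocks -/
def FB (ρ : Representation F K V) (t : ℕ) (H : Subgroup K) : Subgroup K where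
  carrier := {g | ∀ U ∈ Bl ρ t H, U.map (ρ g) = U}
  mul_mem' := fun {a b} ha hb U hU => by rw [← map_map, hb U hU, ha U hU]
  one_mem' := fun U _ => map_one' U
  inv_mem' := fun {a} ha U hU => map_inv_of_map (ha U hU)

/-- **Frames** -/
structure Frame (ρ : Representation F K V) (f : V →ₗ[F] V →ₗ[F] F) (Q : V → F) (π : Set ℕ) (H : Subgroup K)
    (r t : ℕ) : Prop extends IsoG ρ f Q where
  two : 2 ∉ π
  char : ∀ l ∈ π, l.Prime → (l : F) ≠ 0
  hall : IsPiHall π H
  rp : r.Prime
  rπ : r ∈ π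
  tp : t.Prime
  tπ : t ∈ π
  r3 : 3 ≤ r
  rt : r < t
  /-- `T` is a Sylow `t`-subgroup of `K` -/
  syl : ¬ t ∣ (Subgroup.closure (Zs ρ t H)).index
  /-- the elements of `H` fixing all blocks centralise `T` -/
  cent : ∀ h ∈ H, h ∈ FB ρ t H → ∀ z ∈ Subgroup.closure (Zs ρ t H), h * z = z * h
  /-- an `r`-element moves a block -/
  mv : ∃ y ∈ H, (∃ k : ℕ, y ^ r ^ k = 1) ∧ y ∉ FB ρ t H
  /-- the action of `H` on the blocks is an `r`-group -/
  rgrp : ∀ p : ℕ, p.Prime → p ∣ (FB ρ t H).relIndex H → p = r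

end Cfsg.Agent.H969.DPi
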